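import Cfsg.Agent.Lib.Helper28.TCStab
import Cfsg.Agent.Lib.Helper28.TCChain

/-!
# Orbit counting tools: upper bounds, and lower bounds from explicit transversal words (helper93)
-/

set_option autoImplicit false

namespace Cfsg.Agent.Lib.Helper93.HeC

open Cfsg.Agent.Lib.Helper28

/-- orbit–stabiliser, as an upper bound -/
theorem card_le_of_orbit {Γ X : Type*} [Group Γ] [Finite Γ] [MulAction Γ X] (A : Subgroup Γ) (b : X)
    (O : Finset X) (hO : ∀ t ∈ A, t • b ∈ O) :
    Nat.card A ≤ O.card * Nat.card (A ⊓ MulAction.stabilizer Γ b : Subgroup Γ) := by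
  classical
  let rep : X → Γ := fun c => if h : ∃ t ∈ A, t • b = c then h.choose else 1
  have hrep : ∀ a ∈ A, rep (a • b) ∈ A ∧ rep (a • b) • b = a • b := by
    intro a ha
    have h : ∃ t ∈ A, t • b = a • b := ⟨a, ha, rfl⟩
    have e : rep (a • b) = h.choose := dif_pos h
    rw [e]
    exact h.choose_spec
  let F : A → O × (A ⊓ MulAction.stabilizer Γ b : Subgroup Γ) := fun a =>
    (⟨a.1 • b, hO a.1 a.2⟩, ⟨(rep (a.1 • b))⁻¹ * a.1,
      A.mul_mem (A.inv_mem (hrep a.1 a.2).1) a.2, by
        show ((rep (a.1 • b))⁻¹ * a.1) • b = b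
        rw [mul_smul, inv_smul_eq_iff]
        exact (hrep a.1 a.2).2.symm⟩)
  have hF : Function.Injective F := by
    rintro ⟨a, ha⟩ ⟨a', ha'⟩ hab
    have h1 : a • b = a' • b := congrArg (fun p => (p.1 : X)) hab
    have h2 : (rep (a • b))⁻¹ * a = (rep (a' • b))⁻¹ * a' := congrArg (fun p => (p.2 : Γ)) hab
    rw [h1] at h2
    exact Subtype.ext (mul_left_cancel h2)
  have h3 := Nat.card_le_card_of_injective F hF
  rw [Nat.card_prod] at h3
  simpa using h3

/-- the check of a chain of transversals given by words: `tr w c` is the image of the point `c` -/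
def wchain (Λ : List ℕ) (tr : List ℕ → ℕ → ℕ) (n : ℕ) : List ℕ → List (ℕ × List (List ℕ)) → Bool
  | _, [] => true
  | prev, (b, ws) :: rest =>
    (decide (b < n) && ws.all (fun w => w.all (fun y => Λ.contains y) && prev.all (fun p => tr w p == p)))
      && (decide ((ws.map (fun w => tr w b)).Nodup) && wchain Λ tr n (b :: prev) rest)

theorem evalW_mem_Sg {Γ : Type*} [Group Γ] (v : ℕ → Γ) (Λ : List ℕ) (w : List ℕ) (hw : ∀ y ∈ w, y ∈ Λ) :
    evalW v w ∈ Sg v Λ := by
  induction w with
  | nil => exact (Sg v Λ).one_mem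
  | cons x w ih =>
    rw [evalW_cons]
    exact (Sg v Λ).mul_mem (Subgroup.subset_closure ⟨x, hw x List.mem_cons_self, rfl⟩)
      (ih (fun y hy => hw y (List.mem_cons_of_mem _ hy)))

section

variable {Γ X : Type*} [Group Γ] [Finite Γ] [MulAction Γ X] (v : ℕ → Γ) (Λ : List ℕ)
  (code : X → ℕ) (hcode : Function.Injective code) (enc : ℕ → X) (n : ℕ) (henc : ∀ c < n, code (enc c) = c)
  (tr : List ℕ → ℕ → ℕ)
  (htr : ∀ w : List ℕ, (∀ y ∈ w, y ∈ Λ) → ∀ c < n, code ((evalW v w)⁻¹ • enc c) = tr w c)

include hcode henc htr in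
theorem card_ge_aux : ∀ (levels : List (ℕ × List (List ℕ))) (prev : List ℕ) (A : Subgroup Γ),
    (∀ p ∈ prev, p < n) →
    (∀ w : List ℕ, (∀ y ∈ w, y ∈ Λ) → (∀ p ∈ prev, tr w p = p) → (evalW v w)⁻¹ ∈ A) →
    wchain Λ tr n prev levels = true → (levels.map (fun l => l.2.length)).prod ≤ Nat.card A := by
  classical
  intro levels
  induction levels with
  | nil =>
    intro prev A _ _ _
    have : 0 < Nat.card A := Nat.card_pos
    simp only [List.map_nil, List.prod_nil]
    omega
  | cons E rest ih =>
    obtain ⟨b, ws⟩ := E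
    intro prev A hprev hmem hok
    simp only [wchain, Bool.and_eq_true, decide_eq_true_eq, List.all_eq_true, List.contains_iff_mem,
      beq_iff_eq] at hok
    obtain ⟨⟨hb, hws⟩, hnd, hrest⟩ := hok
    let f : List ℕ → X := fun w => (evalW v w)⁻¹ • enc b
    have hnd' : (ws.map f).Nodup := by
      have e : (ws.map f).map code = ws.map (fun w => tr w b) := by
        rw [List.map_map]
        apply List.map_congr_left
        intro w hw
        exact htr w (hws w hw).1 b hb
      exact List.Nodup.of_map code (by rw [e]; exact hnd)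
    let O : Finset X := (ws.map f).toFinset
    have hcard : O.card = ws.length := by
      rw [List.toFinset_card_of_nodup hnd', List.length_map]
    have hO : ∀ c ∈ O, ∃ t ∈ A, t • enc b = c := by
      intro c hc
      obtain ⟨w, hw, rfl⟩ := List.mem_map.mp (List.mem_toFinset.mp hc)
      exact ⟨(evalW v w)⁻¹, hmem w (hws w hw).1 (hws w hw).2, rfl⟩
    have h1 := card_ge_of_orbit A inferInstance (enc b) O hO
    have h2 := ih (b :: prev) (A ⊓ MulAction.stabilizer Γ (enc b))
      (by
        intro p hp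
        rcases List.mem_cons.mp hp with rfl | hp
        · exact hb
        · exact hprev p hp)
      (by
        intro w hw1 hw2
        refine ⟨hmem w hw1 (fun p hp => hw2 p (List.mem_cons_of_mem _ hp)), ?_⟩
        show (evalW v w)⁻¹ • enc b = enc b
        apply hcode
        rw [htr w hw1 b hb, hw2 b List.mem_cons_self, henc b hb])
      hrest
    rw [List.map_cons, List.prod_cons]
    show ws.length * _ ≤ _
    rw [← hcard]
    exact le_trans (Nat.mul_le_mul_left _ h2) h1

include hcode henc htr in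
/-- the order of a subgroup generated by letters is at least the product of the lengths of a chain -/
theorem card_ge_of_wchain (levels : List (ℕ × List (List ℕ))) (h : wchain Λ tr n [] levels = true) :
    (levels.map (fun l => l.2.length)).prod ≤ Nat.card (Sg v Λ) :=
  card_ge_aux v Λ code hcode enc n henc tr htr levels [] (Sg v Λ) (by simp)
    (fun w hw _ => (Sg v Λ).inv_mem (evalW_mem_Sg v Λ w hw)) h

end

/-- distinct conjugates under a subgroup bound the centraliser in it -/
theorem card_conj_le {Γ : Type*} [Group Γ] [Finite Γ] (A : Subgroup Γ) (e : Γ) (ts : List Γ)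
    (hts : ∀ t ∈ ts, t ∈ A) (hnd : (ts.map (fun t => t * e * t⁻¹)).Nodup) :
    ts.length * Nat.card (A ⊓ Subgroup.centralizer {e} : Subgroup Γ) ≤ Nat.card A := by
  classical
  have hinj := List.inj_on_of_nodup_map hnd
  have hnd0 : ts.Nodup := List.Nodup.of_map _ hnd
  let F : ts.toFinset × (A ⊓ Subgroup.centralizer {e} : Subgroup Γ) → A :=
    fun p => ⟨p.1.1 * p.2.1, A.mul_mem (hts _ (List.mem_toFinset.mp p.1.2)) p.2.2.1⟩
  have hF : Function.Injective F := by
    rintro ⟨⟨t, ht⟩, ⟨s, hs⟩⟩ ⟨⟨t', ht'⟩, ⟨s', hs'⟩⟩ hab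
    have h1 : t * s = t' * s' := congrArg Subtype.val hab
    have hc : s * e * s⁻¹ = e := by
      have := Subgroup.mem_centralizer_singleton_iff.mp hs.2
      rw [this, mul_inv_cancel_right]
    have hc' : s' * e * s'⁻¹ = e := by
      have := Subgroup.mem_centralizer_singleton_iff.mp hs'.2
      rw [this, mul_inv_cancel_right]
    have h2 : t * e * t⁻¹ = t' * e * t'⁻¹ := by
      calc t * e * t⁻¹ = t * (s * e * s⁻¹) * t⁻¹ := by rw [hc]
        _ = (t * s) * e * (t * s)⁻¹ := by group
        _ = (t' * s') * e * (t' * s')⁻¹ := by rw [h1]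
        _ = t' * (s' * e * s'⁻¹) * t'⁻¹ := by group
        _ = t' * e * t'⁻¹ := by rw [hc']
    have h3 : t = t' := hinj (List.mem_toFinset.mp ht) (List.mem_toFinset.mp ht') h2
    subst h3
    have h4 : s = s' := mul_left_cancel h1
    subst h4
    rfl
  have h3 := Nat.card_le_card_of_injective F hF
  rw [Nat.card_prod] at h3
  have h4 : Nat.card ts.toFinset = ts.length := by
    rw [Nat.card_eq_fintype_card, Fintype.card_coe, List.toFinset_card_of_nodup hnd0]
  rw [h4] at h3
  exact h3

end Cfsg.Agent.Lib.Helper93.HeC
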