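import Cfsg.Agent.Lib.Helper28.TCChain

set_option autoImplicit false

namespace Cfsg.Agent.Lib.Helper93.HeC

/-- words (in the generators of He) fixing the points `0` and `1`; they conjugate `e` to 45 distinct elements -/
def conjW : List (List ℕ) := [
  [3, 5, 4, 3, 2, 1, 4, 3, 2, 1, 4, 3, 2, 1, 4, 3, 2, 1, 4, 3, 2, 1, 4, 3, 2, 1, 4, 3, 2, 1, 5, 3],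
  [3, 4],
  [],
  [3, 4, 5, 3],
  [3, 5, 1, 2, 3, 4, 1, 2, 3, 4, 1, 2, 3, 4, 1, 2, 3, 4, 1, 2, 3, 4, 1, 2, 3, 4, 1, 2, 3, 4, 5, 3],
  [4, 3, 2, 1, 4, 3, 2, 1, 4, 3, 2, 1, 4, 3, 2, 1, 4, 3, 2, 1, 4, 3, 2, 1, 4, 3, 2, 1, 5, 1, 2, 3, 4, 1, 2, 3, 4, 1, 2, 3, 4, 1, 2, 3, 4, 1, 2, 3, 4, 1, 2, 3, 4, 1, 2, 3, 4],
  [3, 4, 5],
  [3],
  [3, 5],
  [1, 2, 3, 4, 1, 2, 3, 4, 1, 2, 3, 4, 1, 2, 3, 4, 1, 2, 3, 4, 1, 2, 3, 4, 1, 2, 3, 4, 5, 3, 1, 2, 3, 4, 1, 2, 3, 4, 1, 2, 3, 4, 1, 2, 3, 4, 1, 2, 3, 4, 1, 2, 3, 4, 1, 2, 3, 4],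
  [1, 2, 3, 4, 1, 2, 3, 4, 1, 2, 3, 4, 1, 2, 3, 4, 1, 2, 3, 4, 1, 2, 3, 4, 1, 2, 3, 4, 5, 3, 4, 4, 3, 2, 1, 4, 3, 2, 1, 4, 3, 2, 1, 4, 3, 2, 1, 4, 3, 2, 1, 4, 3, 2, 1, 4, 3, 2, 1],
  [4, 3, 2, 1, 4, 3, 2, 1, 4, 3, 2, 1, 4, 3, 2, 1, 4, 3, 2, 1, 4, 3, 2, 1, 4, 3, 2, 1, 5, 3, 5],
  [3, 4, 1, 2, 3, 4, 1, 2, 3, 4, 1, 2, 3, 4, 1, 2, 3, 4, 1, 2, 3, 4, 1, 2, 3, 4, 1, 2, 3, 4, 5, 3],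
  [3, 4, 4, 3, 2, 1, 4, 3, 2, 1, 4, 3, 2, 1, 4, 3, 2, 1, 4, 3, 2, 1, 4, 3, 2, 1, 4, 3, 2, 1],
  [3, 4, 3, 2, 1, 4, 3, 2, 1, 4, 3, 2, 1, 4, 3, 2, 1, 4, 3, 2, 1, 4, 3, 2, 1, 4, 3, 2, 1],
  [3, 1, 2, 3, 4, 1, 2, 3, 4, 1, 2, 3, 4, 1, 2, 3, 4, 1, 2, 3, 4, 1, 2, 3, 4, 1, 2, 3, 4],
  [1, 2, 3, 4, 1, 2, 3, 4, 1, 2, 3, 4, 1, 2, 3, 4, 1, 2, 3, 4, 1, 2, 3, 4, 1, 2, 3, 4, 5, 3, 4, 5],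
  [3, 1, 2, 3, 4, 1, 2, 3, 4, 1, 2, 3, 4, 1, 2, 3, 4, 1, 2, 3, 4, 1, 2, 3, 4, 1, 2, 3, 4, 5, 4, 3],
  [1, 2, 3, 4, 1, 2, 3, 4, 1, 2, 3, 4, 1, 2, 3, 4, 1, 2, 3, 4, 1, 2, 3, 4, 1, 2, 3, 4, 5, 3, 5],
  [4, 3, 2, 1, 4, 3, 2, 1, 4, 3, 2, 1, 4, 3, 2, 1, 4, 3, 2, 1, 4, 3, 2, 1, 4, 3, 2, 1, 5, 3, 4, 5],
  [3, 5, 4, 3, 2, 1, 4, 3, 2, 1, 4, 3, 2, 1, 4, 3, 2, 1, 4, 3, 2, 1, 4, 3, 2, 1, 4, 3, 2, 1],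
  [3, 4, 1, 2, 3, 4, 1, 2, 3, 4, 1, 2, 3, 4, 1, 2, 3, 4, 1, 2, 3, 4, 1, 2, 3, 4, 1, 2, 3, 4],
  [1, 2, 3, 4, 1, 2, 3, 4, 1, 2, 3, 4, 1, 2, 3, 4, 1, 2, 3, 4, 1, 2, 3, 4, 1, 2, 3, 4, 5, 3],
  [3, 1, 2, 3, 4, 1, 2, 3, 4, 1, 2, 3, 4, 1, 2, 3, 4, 1, 2, 3, 4, 1, 2, 3, 4, 1, 2, 3, 4, 5, 4, 3, 4],
  [3, 4, 1, 2, 3, 4, 1, 2, 3, 4, 1, 2, 3, 4, 1, 2, 3, 4, 1, 2, 3, 4, 1, 2, 3, 4, 1, 2, 3, 4, 5, 3, 4],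
  [3, 5, 1, 2, 3, 4, 1, 2, 3, 4, 1, 2, 3, 4, 1, 2, 3, 4, 1, 2, 3, 4, 1, 2, 3, 4, 1, 2, 3, 4],
  [4, 3, 2, 1, 4, 3, 2, 1, 4, 3, 2, 1, 4, 3, 2, 1, 4, 3, 2, 1, 4, 3, 2, 1, 4, 3, 2, 1, 5],
  [4, 3, 2, 1, 4, 3, 2, 1, 4, 3, 2, 1, 4, 3, 2, 1, 4, 3, 2, 1, 4, 3, 2, 1, 4, 3, 2, 1, 5, 3],
  [4, 3, 2, 1, 4, 3, 2, 1, 4, 3, 2, 1, 4, 3, 2, 1, 4, 3, 2, 1, 4, 3, 2, 1, 4, 3, 2, 1, 5, 3, 4],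
  [3, 4, 5, 1, 2, 3, 4, 1, 2, 3, 4, 1, 2, 3, 4, 1, 2, 3, 4, 1, 2, 3, 4, 1, 2, 3, 4, 1, 2, 3, 4],
  [1, 2, 3, 4, 1, 2, 3, 4, 1, 2, 3, 4, 1, 2, 3, 4, 1, 2, 3, 4, 1, 2, 3, 4, 1, 2, 3, 4],
  [4, 3, 2, 1, 4, 3, 2, 1, 4, 3, 2, 1, 4, 3, 2, 1, 4, 3, 2, 1, 4, 3, 2, 1, 4, 3, 2, 1],
  [3, 4, 5, 3, 1, 2, 3, 4, 1, 2, 3, 4, 1, 2, 3, 4, 1, 2, 3, 4, 1, 2, 3, 4, 1, 2, 3, 4, 1, 2, 3, 4],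
  [3, 4, 5, 3, 4, 3, 2, 1, 4, 3, 2, 1, 4, 3, 2, 1, 4, 3, 2, 1, 4, 3, 2, 1, 4, 3, 2, 1, 4, 3, 2, 1],
  [1, 2, 3, 4, 1, 2, 3, 4, 1, 2, 3, 4, 1, 2, 3, 4, 1, 2, 3, 4, 1, 2, 3, 4, 1, 2, 3, 4, 5, 3, 4],
  [3, 4, 5, 4, 3, 2, 1, 4, 3, 2, 1, 4, 3, 2, 1, 4, 3, 2, 1, 4, 3, 2, 1, 4, 3, 2, 1, 4, 3, 2, 1],
  [1, 2, 3, 4, 1, 2, 3, 4, 1, 2, 3, 4, 1, 2, 3, 4, 1, 2, 3, 4, 1, 2, 3, 4, 1, 2, 3, 4, 5],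
  [3, 4, 3, 2, 1, 4, 3, 2, 1, 4, 3, 2, 1, 4, 3, 2, 1, 4, 3, 2, 1, 4, 3, 2, 1, 4, 3, 2, 1, 5],
  [3, 5, 1, 2, 3, 4, 1, 2, 3, 4, 1, 2, 3, 4, 1, 2, 3, 4, 1, 2, 3, 4, 1, 2, 3, 4, 1, 2, 3, 4, 5],
  [3, 1, 2, 3, 4, 1, 2, 3, 4, 1, 2, 3, 4, 1, 2, 3, 4, 1, 2, 3, 4, 1, 2, 3, 4, 1, 2, 3, 4, 5, 4],
  [3, 5, 1, 2, 3, 4, 1, 2, 3, 4, 1, 2, 3, 4, 1, 2, 3, 4, 1, 2, 3, 4, 1, 2, 3, 4, 1, 2, 3, 4, 5, 4],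
  [3, 1, 2, 3, 4, 1, 2, 3, 4, 1, 2, 3, 4, 1, 2, 3, 4, 1, 2, 3, 4, 1, 2, 3, 4, 1, 2, 3, 4, 5],
  [3, 4, 1, 2, 3, 4, 1, 2, 3, 4, 1, 2, 3, 4, 1, 2, 3, 4, 1, 2, 3, 4, 1, 2, 3, 4, 1, 2, 3, 4, 5],
  [3, 5, 4, 3, 2, 1, 4, 3, 2, 1, 4, 3, 2, 1, 4, 3, 2, 1, 4, 3, 2, 1, 4, 3, 2, 1, 4, 3, 2, 1, 5],
  [3, 5, 4, 3, 2, 1, 4, 3, 2, 1, 4, 3, 2, 1, 4, 3, 2, 1, 4, 3, 2, 1, 4, 3, 2, 1, 4, 3, 2, 1, 5, 4]]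

/-- transversal words (in the letters of the centraliser) of a stabiliser chain on the 2058 points -/
def levHe : List (ℕ × List (List ℕ)) := [
  (0, [
    [],
    [1],
    [4],
    [1, 2],
    [1, 4],
    [1, 2, 4],
    [1, 2, 4, 5, 1],
    [1, 5],
    [1, 2, 4, 5],
    [1, 2, 5],
    [1, 4, 5],
    [6],
    [4, 6],
    [1, 2, 4, 6],
    [1, 2, 5, 1],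
    [1, 6],
    [6, 1],
    [4, 6, 1],
    [1, 2, 4, 6, 1],
    [1, 2, 6],
    [1, 4, 6],
    [1, 6, 1],
    [6, 1, 2],
    [4, 6, 1, 2],
    [1, 2, 6, 1],
    [1, 2, 4, 6, 1, 2],
    [1, 4, 6, 1],
    [1, 5, 6],
    [1, 6, 1, 2],
    [1, 4, 6, 5],
    [1, 2, 6, 1, 2],
    [1, 4, 6, 1, 2],
    [1, 5, 6, 1],
    [1, 6, 5],
    [1, 4, 5, 6],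
    [1, 5, 6, 1, 3],
    [1, 2, 4, 6, 1, 5],
    [1, 2, 6, 1, 5],
    [1, 2, 4, 6, 1, 2, 5],
    [1, 2, 6, 1, 5, 1],
    [1, 2, 6, 1, 2, 5],
    [1, 2, 4, 6, 1, 5, 1]]),
  (42, [
    [],
    [0],
    [2],
    [2, 1, 0, 1, 2, 0],
    [3],
    [1, 5, 4, 5, 1],
    [0, 2],
    [2, 1, 0, 1, 2],
    [0, 3],
    [0, 2, 1, 0, 1],
    [2, 3],
    [2, 1, 0, 1, 2, 0, 3],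
    [1, 5, 4, 5, 1, 0],
    [1, 5, 4, 5, 1, 2],
    [3, 1, 5, 4, 5, 1, 3],
    [3, 1, 5, 4, 5, 1],
    [1, 5, 4, 5, 1, 3],
    [2, 1, 0, 1],
    [0, 2, 3],
    [2, 1, 0, 1, 2, 3],
    [0, 2, 3, 1, 0, 1],
    [0, 6, 1, 5, 2, 1, 6, 2, 0],
    [1, 5, 4, 5, 1, 0, 2],
    [0, 1, 5, 4, 5, 1],
    [3, 1, 5, 4, 5, 1, 0],
    [0, 3, 1, 5, 4, 5, 1],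
    [3, 1, 5, 4, 5, 1, 3, 2],
    [3, 1, 5, 4, 5, 1, 2],
    [0, 3, 5, 1, 5, 4, 5, 1],
    [1, 5, 4, 5, 1, 2, 3],
    [2, 3, 1, 0, 1],
    [0, 6, 1, 5, 2, 1, 6, 2],
    [0, 2, 6, 1, 5, 2, 1, 6, 2],
    [0, 6, 1, 5, 2, 1, 6, 0],
    [2, 1, 0, 1, 2, 6, 1, 5, 2, 1, 6, 2, 0],
    [3, 6, 1, 5, 2, 1, 6, 2],
    [0, 6, 1, 5, 2, 1, 6, 2, 1, 0, 1],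
    [0, 6, 1, 5, 2, 1, 6, 2, 0, 1, 0, 1],
    [0, 1, 5, 4, 5, 1, 2],
    [3, 1, 5, 4, 5, 1, 0, 2],
    [1, 5, 4, 5, 1, 3, 5],
    [1, 5, 4, 5, 1, 0, 2, 3],
    [1, 5, 4, 5, 1, 0, 5],
    [1, 5, 4, 5, 1, 0, 2, 3, 5],
    [3, 1, 5, 4, 5, 1, 0, 5],
    [3, 6, 1, 5, 2, 1, 6, 1, 0, 1],
    [0, 2, 6, 1, 5, 2, 1, 6, 2, 0],
    [0, 6, 1, 5, 2, 1, 6],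
    [2, 1, 0, 1, 2, 6, 1, 5, 2, 1, 6, 2],
    [0, 6, 1, 5, 2, 1, 6, 2, 3],
    [2, 3, 6, 1, 5, 2, 1, 6, 1, 0, 1],
    [0, 2, 6, 1, 5, 2, 1, 6, 3],
    [6, 1, 5, 2, 1, 6, 1, 0, 1, 2, 1, 0, 1],
    [0, 2, 6, 1, 5, 2, 1, 6],
    [2, 1, 0, 1, 6, 1, 5, 2, 1, 6, 2],
    [0, 2, 6, 1, 5, 2, 1, 6, 2, 3],
    [0, 2, 6, 1, 5, 2, 1, 6, 2, 0, 1, 0, 1],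
    [2, 1, 0, 1, 2, 6, 1, 5, 2, 1, 6, 0],
    [3, 6, 1, 5, 2, 1, 6],
    [0, 6, 1, 5, 2, 1, 6, 1, 0, 1, 2, 0],
    [2, 1, 0, 1, 2, 6, 1, 5, 2, 1, 6, 2, 0, 3],
    [0, 6, 1, 5, 2, 1, 6, 2, 1, 0, 1, 2],
    [0, 6, 1, 5, 2, 1, 6, 2, 3, 1, 0, 1],
    [0, 6, 1, 5, 2, 1, 6, 2, 0, 1, 0, 1, 2],
    [0, 6, 1, 5, 2, 1, 6, 1, 0, 1, 2],
    [3, 6, 1, 5, 2, 1, 6, 2, 1, 0, 1],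
    [0, 2, 6, 1, 5, 2, 1, 6, 2, 1, 0, 1],
    [5, 1, 5, 4, 5, 1],
    [1, 5, 4, 5, 1, 2, 3, 5],
    [3, 5, 1, 5, 4, 5, 1],
    [1, 5, 4, 5, 1, 0, 2, 5],
    [0, 5, 1, 5, 4, 5, 1],
    [3, 1, 5, 4, 5, 1, 0, 2, 5],
    [0, 2, 1, 5, 4, 5, 1, 0],
    [3, 6, 1, 5, 2, 1, 6, 1, 0, 1, 2],
    [0, 6, 1, 5, 2, 1, 6, 3, 1, 0, 1],
    [0, 6, 1, 5, 2, 1, 6, 2, 1, 0, 1, 2, 3],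
    [0, 6, 1, 5, 2, 1, 6, 0, 1, 0, 1],
    [3, 6, 1, 5, 2, 1, 6, 2, 1, 0, 1, 2],
    [0, 2, 6, 1, 5, 2, 1, 6, 3, 1, 0, 1],
    [2, 3, 6, 1, 5, 2, 1, 6],
    [2, 1, 0, 1, 2, 0, 6, 1, 5, 2, 1, 6, 2],
    [0, 2, 6, 1, 5, 2, 1, 6, 0],
    [2, 1, 0, 1, 6, 1, 5, 2, 1, 6, 2, 0],
    [2, 3, 6, 1, 5, 2, 1, 6, 2],
    [2, 1, 0, 1, 2, 6, 1, 5, 2, 1, 6],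
    [0, 6, 1, 5, 2, 1, 6, 3],
    [2, 1, 0, 1, 2, 6, 1, 5, 2, 1, 6, 2, 3],
    [0, 2, 1, 0, 1, 6, 1, 5, 2, 1, 6, 2, 0],
    [2, 6, 1, 5, 2, 1, 6, 1, 0, 1, 2],
    [2, 3, 6, 1, 5, 2, 1, 6, 1, 0, 1, 2],
    [0, 2, 6, 1, 5, 2, 1, 6, 2, 1, 0, 1, 2, 3],
    [0, 2, 6, 1, 5, 2, 1, 6, 0, 1, 0, 1],
    [0, 2, 6, 1, 5, 2, 1, 6, 2, 1, 0, 1, 2],
    [2, 1, 0, 1, 6, 1, 5, 2, 1, 6],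
    [2, 1, 0, 1, 6, 1, 5, 2, 1, 6, 3],
    [2, 1, 0, 1, 2, 0, 6, 1, 5, 2, 1, 6, 0],
    [6, 1, 5, 2, 1, 6, 2, 0],
    [2, 1, 0, 1, 2, 3, 6, 1, 5, 2, 1, 6, 2],
    [6, 1, 5, 2, 1, 6, 1, 0, 1, 2, 0],
    [0, 2, 1, 5, 4, 5, 1],
    [2, 1, 0, 1, 5, 4, 5, 4],
    [0, 2, 6, 1, 5, 2, 1, 6, 1, 0, 1, 2],
    [2, 1, 0, 1, 6, 1, 5, 2, 1, 6, 2, 3],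
    [2, 1, 0, 1, 6, 1, 5, 2, 1, 6, 1, 0, 1],
    [2, 3, 6, 1, 5, 2, 1, 6, 2, 1, 0, 1],
    [2, 1, 0, 1, 2, 0, 3, 6, 1, 5, 2, 1, 6],
    [0, 5],
    [0, 6, 1, 5, 2, 1, 6, 1, 0, 1],
    [0, 6, 1, 5, 2, 1, 6, 1, 0, 1, 2, 3],
    [0, 2, 6, 1, 5, 2, 1, 6, 2, 3, 1, 0, 1],
    [2, 3, 6, 1, 5, 2, 1, 6, 1, 0, 1, 2, 3],
    [6, 1, 5, 2, 1, 6, 1, 0, 1, 2],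
    [1, 5, 4, 5, 1, 2, 5],
    [3, 1, 5, 4, 5, 1, 3, 5],
    [3, 1, 5, 4, 5, 1, 2, 5],
    [4, 5, 4, 1, 5, 4, 5, 1],
    [0, 1, 5, 4, 5, 1, 2, 5],
    [3, 1, 5, 4, 5, 1, 0, 4, 5, 4],
    [0, 2, 1, 5, 4, 5, 1, 0, 2],
    [2, 1, 5, 4, 5, 1],
    [2, 3, 1, 5, 4, 5, 1],
    [2, 1, 0, 1, 2, 6, 1, 5, 2, 1, 6, 3],
    [0, 3, 5],
    [0, 3, 4, 5, 4, 1, 5, 4, 5, 1],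
    [6, 1, 5, 2, 1, 6, 2, 0, 3, 1, 0, 1],
    [0, 2, 1, 0, 1, 6, 1, 5, 2, 1, 6, 2],
    [2, 6, 1, 5, 2, 1, 6, 1, 0, 1, 2, 0],
    [0, 2, 6, 1, 5, 2, 1, 6, 3, 1, 0, 1, 2],
    [2, 3, 6, 1, 5, 2, 1, 6, 2, 1, 0, 1, 2],
    [0, 2, 6, 1, 5, 2, 1, 6, 1, 0, 1],
    [2, 1, 0, 1, 6, 1, 5, 2, 1, 6, 0],
    [0, 2, 3, 1, 0, 1, 6, 1, 5, 2, 1, 6],
    [2, 1, 0, 1, 2, 0, 6, 1, 5, 2, 1, 6],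
    [6, 1, 5, 2, 1, 6, 2],
    [2, 1, 0, 1, 2, 0, 6, 1, 5, 2, 1, 6, 2, 3],
    [5, 4, 5, 4, 1, 0, 1, 2],
    [2, 1, 0, 1, 6, 1, 5, 2, 1, 6, 2, 0, 3],
    [5],
    [0, 2, 1, 0, 1, 6, 1, 5, 2, 1, 6, 0],
    [2, 6, 1, 5, 2, 1, 6, 2, 0],
    [2, 3, 1, 0, 1, 6, 1, 5, 2, 1, 6, 2],
    [4, 5, 4, 1, 0, 1, 5],
    [2, 6, 1, 5, 2, 1, 6, 2, 0, 1, 0, 1],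
    [2, 6, 1, 5, 2, 1, 6, 1, 0, 1],
    [2, 6, 1, 5, 2, 1, 6, 1, 0, 1, 2, 3],
    [0, 3, 5, 4, 5, 4],
    [2, 5, 1, 0, 1, 2],
    [0, 3, 4, 5, 4],
    [3, 4, 5, 4, 1, 0, 1],
    [0, 2, 1, 0, 1, 6, 1, 5, 2, 1, 6],
    [6, 1, 5, 2, 1, 6, 0],
    [2, 1, 0, 1, 2, 3, 6, 1, 5, 2, 1, 6],
    [6, 1, 5, 2, 1, 6, 2, 1, 0, 1],
    [6, 1, 5, 2, 1, 6, 2, 0, 3],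
    [6, 1, 5, 2, 1, 6, 0, 1, 0, 1],
    [6, 1, 5, 2, 1, 6, 1, 0, 1, 2, 0, 3],
    [0, 2, 1, 5, 4, 5, 1, 2],
    [2, 1, 5, 4, 5, 1, 0],
    [0, 2, 1, 5, 4, 5, 1, 3],
    [3, 4, 5, 4, 1, 0, 1, 5],
    [0, 2, 5, 4, 5, 4],
    [0, 2, 3, 5, 4, 5, 4],
    [4, 5, 4, 1, 0, 1, 2, 5],
    [2, 1, 0, 1, 2, 5],
    [3, 4, 5, 4],
    [0, 2, 5],
    [3, 5],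
    [6, 1, 5, 2, 1, 6, 1, 0, 1],
    [6, 1, 5, 2, 1, 6, 2, 0, 1, 0, 1],
    [6, 1, 5, 2, 1, 6, 1, 0, 1, 2, 3],
    [1, 5, 4, 5, 1, 0, 4, 5, 4],
    [3, 1, 5, 4, 5, 1, 3, 2, 5],
    [3, 4, 5, 4, 1, 5, 4, 5, 1],
    [2, 3, 1, 5, 4, 5, 1, 2],
    [2, 5, 1, 5, 4, 5, 1],
    [3, 1, 5, 4, 5, 1, 3, 4, 5, 4],
    [1, 5, 4, 5, 1, 3, 4, 5, 4],
    [0, 2, 1, 5, 4, 5, 1, 3, 5],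
    [0, 4, 5, 4, 1, 5, 4, 5, 1],
    [2, 1, 5, 4, 5, 1, 0, 5],
    [2, 1, 5, 4, 5, 1, 2],
    [2, 1, 5, 4, 5, 1, 3],
    [0, 2, 3, 5],
    [2, 1, 0, 1, 2, 3, 5],
    [0, 2, 3, 5, 1, 5, 4, 5, 1],
    [6, 1, 5, 2, 1, 6, 2, 3, 1, 0, 1],
    [6, 1, 5, 2, 1, 6, 2, 0, 3, 1, 0, 1, 2],
    [2, 6, 1, 5, 2, 1, 6, 2],
    [0, 2, 1, 0, 1, 6, 1, 5, 2, 1, 6, 2, 3],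
    [0, 4, 5, 4, 1, 0, 1, 5],
    [2, 6, 1, 5, 2, 1, 6, 2, 1, 0, 1],
    [2, 6, 1, 5, 2, 1, 6, 0, 1, 0, 1],
    [2, 6, 1, 5, 2, 1, 6, 1, 0, 1, 2, 0, 3],
    [3, 5, 4, 5, 4],
    [0, 3, 4, 5, 4, 1, 0, 1],
    [6, 1, 5, 2, 1, 6],
    [2, 1, 0, 1, 2, 0, 6, 1, 5, 2, 1, 6, 3],
    [6, 1, 5, 2, 1, 6, 2, 3],
    [5, 4, 5, 4, 1, 0, 1],
    [2, 5, 4, 5, 4],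
    [2, 3, 5, 4, 5, 4],
    [2, 5, 1, 0, 1, 4, 5, 4],
    [2, 1, 0, 1, 2, 0, 5],
    [2, 5],
    [2, 6, 1, 5, 2, 1, 6, 0],
    [2, 3, 1, 0, 1, 6, 1, 5, 2, 1, 6],
    [2, 6, 1, 5, 2, 1, 6, 2, 0, 3],
    [4, 5, 4],
    [0, 4, 5, 4, 1, 0, 1],
    [2, 6, 1, 5, 2, 1, 6, 2, 0, 1, 0, 1, 2],
    [2, 6, 1, 5, 2, 1, 6, 2, 0, 3, 1, 0, 1],
    [2, 5, 1, 0, 1],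
    [4, 5, 4, 1, 0, 1, 2],
    [2, 6, 1, 5, 2, 1, 6, 3, 1, 0, 1],
    [0, 5, 4, 5, 4],
    [2, 3, 1, 0, 1, 5],
    [0, 4, 5, 4],
    [0, 2, 3, 4, 5, 4],
    [4, 5, 4, 1, 0, 1],
    [2, 1, 0, 1, 4, 5, 4],
    [2, 6, 1, 5, 2, 1, 6],
    [0, 2, 1, 0, 1, 6, 1, 5, 2, 1, 6, 3],
    [0, 2, 4, 5, 4],
    [0, 3, 6, 1, 5, 2, 1, 6],
    [6, 1, 5, 2, 1, 6, 2, 1, 0, 1, 2],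
    [0, 3, 6, 1, 5, 2, 1, 6, 1, 0, 1],
    [2, 1, 5, 4, 5, 1, 0, 2],
    [0, 2, 1, 5, 4, 5, 1, 2, 3],
    [0, 2, 3, 1, 5, 4, 5, 1],
    [2, 1, 0, 1, 5],
    [2, 3, 4, 5, 4],
    [2, 3, 5],
    [6, 1, 5, 2, 1, 6, 2, 0, 1, 0, 1, 2],
    [6, 1, 5, 2, 1, 6, 3, 1, 0, 1],
    [2, 3, 5, 1, 5, 4, 5, 1],
    [2, 1, 5, 4, 5, 1, 2, 3],
    [0, 2, 1, 5, 4, 5, 1, 0, 5],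
    [2, 1, 5, 4, 5, 1, 3, 5],
    [0, 2, 5, 1, 5, 4, 5, 1],
    [2, 6, 1, 5, 2, 1, 6, 2, 3, 1, 0, 1],
    [6, 1, 5, 2, 1, 6, 2, 3, 1, 0, 1, 2],
    [2, 6, 1, 5, 2, 1, 6, 2, 3],
    [2, 6, 1, 5, 2, 1, 6, 2, 1, 0, 1, 2],
    [0, 4, 5, 4, 1, 0, 1, 2],
    [0, 2, 3, 6, 1, 5, 2, 1, 6, 1, 0, 1],
    [5, 4, 5, 4],
    [0, 2, 1, 0, 1, 4, 5, 4],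
    [2, 4, 5, 4],
    [6, 1, 5, 2, 1, 6, 3],
    [0, 2, 1, 0, 1, 5],
    [0, 2, 3, 6, 1, 5, 2, 1, 6],
    [2, 6, 1, 5, 2, 1, 6, 2, 0, 1, 0, 1, 2, 3],
    [2, 6, 1, 5, 2, 1, 6, 3],
    [2, 1, 5, 4, 5, 1, 0, 2, 3],
    [2, 6, 1, 5, 2, 1, 6, 2, 3, 1, 0, 1, 2]]),
  (9, [
    [],
    [1, 0, 1]])]

end Cfsg.Agent.Lib.Helper93.HeC
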