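import Cfsg.Agent.Lib.Helper28.TCChain
import Cfsg.Agent.Lib.Helper93.HeC.W

set_option autoImplicit false
set_option maxRecDepth 100000

namespace Cfsg.Agent.Lib.Helper93.HeC.L0

open Cfsg.Agent.Lib.Helper28

noncomputable def tabC0 : Tr := .leaf 0x86801d6006500154934180000b0210846010
noncomputable def auxC0 : Tr := .leaf 0x69c001b000021e000748dc11a000000000a012400001
noncomputable def tabC1 : Tr := .leaf 0x7080200002880144d01880000c010a008010
noncomputable def auxC1 : Tr := .leaf 0x68400000000204000728001040000000008400000001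
noncomputable def tabC2 : Tr := .leaf 0x82001440000001c64100000002148000a010
noncomputable def auxC2 : Tr := .leaf 0x6a200113000000001a18c30000000004300000000001
noncomputable def tabC3 : Tr := .leaf 0x86bf1d80000001569900000425b43094c010
noncomputable def auxC3 : Tr := .leaf 0x6a4991b0800000000738dd000000311153b45b000001
noncomputable def tabC4 : Tr := .leaf 0x87285dc0000001e09923884000043094e010
noncomputable def auxC4 : Tr := .leaf 0x6b2911ab000000000000de188110000003b66b400001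
noncomputable def tabC5 : Tr := .leaf 0x8700122000000082e0000000052500004210
noncomputable def auxC5 : Tr := .leaf 0x6a600103800000000638000000000005f00000015801
noncomputable def tabC6 : Tr := .leaf 0x86001540000001d69b000000000210002220
noncomputable def auxC6 : Tr := .leaf 0x68a00114000000001a422a0000000000008a00004000
noncomputable def tabC7 : Tr := .leaf 0x2b8009d269680000240d0682c000a40000
noncomputable def auxC7 : Tr := .leaf 0xd600021420c428000003ae2304592300071800000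
noncomputable def dC : Tr := .leaf 0x68291102a01202400628c21021102184208210003000
noncomputable def tabCols : List Tr := [tabC0, tabC1, tabC2, tabC3, tabC4, tabC5, tabC6, tabC7]
noncomputable def auxCols : List Tr := [auxC0, auxC1, auxC2, auxC3, auxC4, auxC5, auxC6, auxC7]
def pairsC : List ((List ℕ × ℕ × List ℕ) × ℕ) := [
  (([1], 1, []), 18432),
  (([2], 2, []), 19456),
  (([4], 4, []), 21504),
  (([1], 6, [6, 1, 6, 1]), 14336),
  (([1], 7, [7, 1]), 18432),
  (([5], 5, []), 22528),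
  (([6], 6, []), 23552),
  (([0], 0, []), 17408),
  (([0], 7, [2, 0, 7, 2]), 1024),
  (([0, 5, 1, 0, 1, 5, 3], 7, [1, 0, 1]), 12291),
  (([0, 6, 1, 0, 1, 6, 4], 7, [1, 0, 1]), 16387),
  (([1], 0, [0, 1, 0, 1, 0, 1]), 1),
  (([1], 0, [2, 1, 0, 1, 0, 4, 3, 4, 3, 2, 1]), 9226),
  (([1], 0, [2, 1, 0, 1, 0, 7, 4, 7, 7, 3, 7, 7, 4, 7, 7, 3, 7, 7, 2, 1]), 9226),
  (([1], 0, [6, 4, 1, 0, 1, 0, 6, 1]), 16396),
  (([1], 2, [2, 1, 2, 1]), 2048),
  (([1], 3, [3, 1]), 4096),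
  (([1], 5, [5, 1, 7, 5, 1]), 11264),
  (([1], 7, [2, 1, 2, 7, 1, 2]), 2048),
  (([1, 0, 1], 3, [0, 7, 5, 1, 0, 1, 5]), 12290),
  (([1, 0, 1], 4, [0, 6, 1, 0, 1, 6]), 16386),
  (([1, 0, 1, 0, 6, 1, 0, 1], 7, [4, 6]), 16393),
  (([1, 0, 1, 6, 0, 1, 0, 1, 4], 7, [6]), 16396),
  (([1, 0, 6, 1, 0, 1, 6], 4, [0, 1]), 16389),
  (([1, 3, 1], 3, []), 4096),
  (([1, 4, 1], 4, []), 7168),
  (([2], 0, [0, 2]), 1025),
  (([2], 3, [3, 7, 2]), 5120),
  (([2], 4, [4, 7, 2]), 8192),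
  (([2], 5, [5, 2]), 10240),
  (([2, 0, 2], 0, []), 1025),
  (([2, 3, 2], 3, []), 5120),
  (([3], 3, []), 20480),
  (([3], 7, [2, 6, 5, 6, 5, 4, 7, 7, 3, 7, 7, 4, 7, 7]), 15362),
  (([4], 3, [3, 2, 6, 5, 6, 5, 4]), 15364),
  (([5], 1, [1, 5, 1, 5]), 11265),
  (([5], 2, [2, 5]), 10241),
  (([5], 3, [1, 0, 7, 1, 5, 0, 1, 0, 1]), 12301),
  (([5], 6, [4, 3, 4, 3, 2, 6, 5]), 15370),
  (([5, 1], 0, [0, 1, 0, 7, 1, 3, 7, 5, 1]), 12289),
  (([5, 6, 5, 4, 7, 3, 7, 4, 7, 3, 7, 2], 6, []), 15377),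
  (([6], 5, [2, 3, 4, 3, 4, 5, 6]), 15361),
  (([7], 3, [3]), 20480),
  (([7], 4, [4]), 21504)]
def subL : List ℕ := [0, 1, 2, 3, 4, 5]
noncomputable def D : UB where
  tab := field tabCols 6 63 9 511
  aux := field auxCols 6 63 11 2047
  dinfo := field [dC] 6 63 11 2047 0
  rb := 4
  RM := 15
  pb := 6
  PM := 63
  m := 16
  K := 7
  Kall := 8
  pairs := pairsC.map Prod.fst
  isSub := fun x => subL.contains x
  fuel := 4
def ren : ℕ → ℕ
  | 0 => 0
  | 1 => 1
  | 2 => 2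
  | 3 => 3
  | 4 => 4
  | 5 => 5
  | 6 => 6
  | _ => 0
def linv : ℕ → ℕ
  | 0 => 0
  | 1 => 1
  | 2 => 2
  | 3 => 3
  | 4 => 4
  | 5 => 5
  | 6 => 6
  | x => x
def relsL : List (List ℕ) := [
  [0, 1, 0, 1, 0, 1, 0, 1],
  [0, 2, 0, 2],
  [1, 2, 1, 2, 1, 2],
  [0, 3, 0, 3],
  [1, 3, 1, 3],
  [2, 3, 2, 3],
  [0, 4, 0, 4],
  [1, 4, 1, 4],
  [2, 4, 2, 4],
  [0, 1, 0, 1, 2, 1, 0, 1, 2, 3, 4, 3, 4],
  [2, 5, 2, 5],
  [1, 5, 1, 5, 1, 5],
  [0, 1, 0, 1, 3, 5, 1, 0, 1, 5],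
  [1, 2, 1, 4, 5, 1, 2, 4, 5, 1, 2, 4, 5, 4, 1, 5],
  [1, 6, 1, 6, 1, 6],
  [2, 3, 4, 3, 4, 5, 6, 5, 6],
  [0, 1, 0, 1, 4, 6, 1, 0, 1, 6]]
noncomputable def Lk : Link where
  D := D
  ren := ren
  inv := linv
  rels := relsL
  pairsC := pairsC
  subL := subL
  n := 7
theorem chk_0 : allRange D.checkLabel 0 16 = true := by decide +kernel
theorem check_all : ∀ c < D.m, D.checkLabel c = true := by
  intro c hc
  have hc' : c < 16 := hc
  by_cases h0 : c < 16
  · exact allRange_iff.mp chk_0 c (by omega) (by omega)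
  omega
theorem pairs_ok : pairsC.all (pairOK (relsAll relsL linv 8) linv 7 8) = true := by decide +kernel
theorem relsK_ok : ∀ r ∈ relsAll relsL linv 8, ∀ y ∈ r, y < 8 := by decide +kernel
theorem core : Lk.Core Cfsg.Agent.Lib.Helper93.HeC.W Cfsg.Agent.Lib.Helper93.HeC.oinv 7 [0, 1, 2, 3, 4, 5] where
  Kall := rfl
  invK := by decide +kernel
  invE := rfl
  relsIn := by decide +kernel
  Dpairs := rfl
  pairs := pairs_ok
  relsK := relsK_ok
  isSub := by
    intro x hx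
    have hx' : subL.contains x = true := hx
    show x ∈ subL
    simpa using hx'
  sub := by decide +kernel
  check := check_all
theorem fin_all : allBelow D.finalLabel 16 = true := by decide +kernel
theorem live_count : D.liveCount = 7 := by decide +kernel
theorem h0_ok : D.tg D.K 0 = 0 := by decide +kernel
theorem ok : Lk.OK Cfsg.Agent.Lib.Helper93.HeC.W Cfsg.Agent.Lib.Helper93.HeC.oinv 7 [0, 1, 2, 3, 4, 5, 6] [0, 1, 2, 3, 4, 5] where
  toCore := core
  gens := by decide +kernel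
  hm := by decide
  h0 := h0_ok
  fin := allBelow_iff.mp fin_all
  count := live_count

end Cfsg.Agent.Lib.Helper93.HeC.L0
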