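import Cfsg.Agent.Lib.Helper28.TCChain
import Cfsg.Agent.Lib.Helper93.HeC.W

set_option autoImplicit false
set_option maxRecDepth 100000

namespace Cfsg.Agent.Lib.Helper93.HeC.L1

open Cfsg.Agent.Lib.Helper28

noncomputable def tabC0 : Tr := .leaf 0xe336b00000002ecb32ac0026b003400000072d41901646812340ce3328002084118020
noncomputable def auxC0 : Tr := .leaf 0x90f01800000000d1d88e87000b18000000000012324e000754000d518e2450c80008c13800001
noncomputable def tabC1 : Tr := .leaf 0xa96210000080ae4687860018100360c0c00506c098163700c24086148c00104e020020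
noncomputable def auxC1 : Tr := .leaf 0x91700800000698d2d816c2000b0800000b8400121000000730000cc1962090100008400000001
noncomputable def tabC2 : Tr := .leaf 0x986a400000001c100365003800018300000b81a48912250d6320400308004006210420
noncomputable def auxC2 : Tr := .leaf 0x90906800000000d10006840000000028d0000000024f808758a6a841880002b00000013c06801
noncomputable def tabC3 : Tr := .leaf 0xe377300000002ed742b40026e0023483d41b3d4ea016a7812a42487318413984528020
noncomputable def auxC3 : Tr := .leaf 0xdd908400000001ba9a46a2001b980069baa4922a9b970007a0000e91c6320c904832645c00001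
noncomputable def tabC4 : Tr := .leaf 0x99e2400000002e900181003880036500000c0000a81018008158000104004800030020
noncomputable def auxC4 : Tr := .leaf 0x94907000000001294002c5001b140068500000000000000714000c50000002280000000000001
noncomputable def tabC5 : Tr := .leaf 0xb93640020100385002a8001c300161c800099000486203058040c00500002080008440
noncomputable def auxC5 : Tr := .leaf 0x929024003c3001b0c006a0000b240028300000241800406000a18001a80000000009200001800
noncomputable def tabC6 : Tr := .leaf 0x8c8c571c00744006540064400519ad00150000000000000088000640004900000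
noncomputable def auxC6 : Tr := .leaf 0x20c69f7940018500084e002ae800c56c40003ed000000000000006780009000062800000
noncomputable def dC : Tr := .leaf 0x905006003c5688d0980ac4586b056028548890d20a4040a710a28c41842042204308210002800
noncomputable def tabCols : List Tr := [tabC0, tabC1, tabC2, tabC3, tabC4, tabC5, tabC6]
noncomputable def auxCols : List Tr := [auxC0, auxC1, auxC2, auxC3, auxC4, auxC5, auxC6]
def pairsC : List ((List ℕ × ℕ × List ℕ) × ℕ) := [
  (([1], 1, []), 15360),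
  (([5], 5, []), 19456),
  (([2], 2, []), 16384),
  (([4], 4, []), 18432),
  (([1], 0, [5, 3, 1, 0, 1, 0, 5, 1]), 12300),
  (([2], 0, [0, 2]), 1025),
  (([3], 3, []), 17408),
  (([1], 5, [5, 1, 5, 1]), 11264),
  (([1], 6, [6, 1]), 15360),
  (([2], 1, [1, 2, 1, 2]), 2049),
  (([4], 1, [1, 4]), 7169),
  (([5], 2, [2, 5]), 10241),
  (([0], 0, []), 14336),
  (([0], 2, [2, 0]), 1024),
  (([0, 5, 1, 0, 1, 5, 3], 6, [1, 0, 1]), 12291),
  (([1], 0, [0, 1, 0, 1, 0, 1]), 1),
  (([1, 0, 4], 3, [0, 1, 2, 1, 0, 1, 2, 3, 4]), 9221),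
  (([1, 3, 1], 3, []), 4096),
  (([2], 5, [5, 2]), 10240),
  (([4], 0, [0, 4]), 6145),
  (([4], 2, [2, 4]), 8193),
  (([6], 3, [3]), 17408),
  (([0], 6, [2, 0, 6, 2]), 1024),
  (([1], 0, [0, 1, 2, 1, 0, 1, 2, 3, 4, 3, 6, 6, 4]), 9221),
  (([1], 2, [5, 4, 1, 2, 1, 5, 1, 4, 5, 4, 2, 1, 5, 4]), 13322),
  (([1], 3, [3, 1]), 4096),
  (([1], 4, [5, 1, 2, 1, 4, 5, 1, 2, 4, 5, 1, 2, 4, 5]), 13343),
  (([1, 0, 1, 0, 5, 1, 0], 6, [3, 5, 1]), 12297),
  (([1, 0, 1, 0, 5, 1, 0, 1], 6, [3, 5]), 12297),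
  (([1, 2, 1, 5, 1, 4, 5], 6, [4, 5, 1, 2, 4, 5, 1, 2, 4]), 13319),
  (([1, 2, 4], 5, [5, 4, 2, 1, 5, 4, 6, 1, 2, 1, 5, 1, 4]), 13330),
  (([1, 5], 3, [0, 6, 1, 5, 0, 1, 0, 6, 1]), 12303),
  (([2], 3, [3, 2]), 5120),
  (([2], 3, [3, 6, 2]), 5120),
  (([2], 4, [1, 5, 4, 1, 2, 1, 5, 1, 4, 5, 4, 6, 2, 1, 5]), 13324),
  (([2, 1, 5, 4, 2, 1, 5, 4, 1, 2, 1, 5, 1], 4, [4, 5]), 13335),
  (([3, 2], 3, [2]), 5121),
  (([3, 2, 3], 6, [2]), 5121),
  (([4], 3, [0, 1, 0, 1, 2, 1, 0, 6, 1, 2, 3, 4]), 9217),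
  (([4], 3, [0, 1, 0, 6, 1, 2, 1, 0, 1, 2, 3, 6, 4]), 9217),
  (([5], 3, [1, 0, 1, 5, 0, 1, 0, 1]), 12301),
  (([5], 6, [6, 5]), 19456),
  (([5, 1, 0, 1, 5], 3, [0, 1, 0, 1]), 12289),
  (([6, 3, 6], 6, [3, 6]), 17409)]
def subL : List ℕ := [0, 1, 2, 3, 4]
noncomputable def D : UB where
  tab := field tabCols 6 63 10 1023
  aux := field auxCols 6 63 11 2047
  dinfo := field [dC] 6 63 11 2047 0
  rb := 5
  RM := 31
  pb := 6
  PM := 63
  m := 28
  K := 6
  Kall := 7
  pairs := pairsC.map Prod.fst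
  isSub := fun x => subL.contains x
  fuel := 4
def ren : ℕ → ℕ
  | 0 => 0
  | 1 => 1
  | 2 => 2
  | 3 => 3
  | 4 => 4
  | 5 => 5
  | _ => 0
def linv : ℕ → ℕ
  | 0 => 0
  | 1 => 1
  | 2 => 2
  | 3 => 3
  | 4 => 4
  | 5 => 5
  | x => x
def relsL : List (List ℕ) := [
  [0, 1, 0, 1, 0, 1, 0, 1],
  [0, 2, 0, 2],
  [1, 2, 1, 2, 1, 2],
  [0, 3, 0, 3],
  [1, 3, 1, 3],
  [2, 3, 2, 3],
  [0, 4, 0, 4],
  [1, 4, 1, 4],
  [2, 4, 2, 4],
  [0, 1, 0, 1, 2, 1, 0, 1, 2, 3, 4, 3, 4],
  [2, 5, 2, 5],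
  [1, 5, 1, 5, 1, 5],
  [0, 1, 0, 1, 3, 5, 1, 0, 1, 5],
  [1, 2, 1, 4, 5, 1, 2, 4, 5, 1, 2, 4, 5, 4, 1, 5]]
noncomputable def Lk : Link where
  D := D
  ren := ren
  inv := linv
  rels := relsL
  pairsC := pairsC
  subL := subL
  n := 16
theorem chk_0 : allRange D.checkLabel 0 28 = true := by decide +kernel
theorem check_all : ∀ c < D.m, D.checkLabel c = true := by
  intro c hc
  have hc' : c < 28 := hc
  by_cases h0 : c < 28
  · exact allRange_iff.mp chk_0 c (by omega) (by omega)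
  omega
theorem pairs_ok : pairsC.all (pairOK (relsAll relsL linv 7) linv 6 7) = true := by decide +kernel
theorem relsK_ok : ∀ r ∈ relsAll relsL linv 7, ∀ y ∈ r, y < 7 := by decide +kernel
theorem core : Lk.Core Cfsg.Agent.Lib.Helper93.HeC.W Cfsg.Agent.Lib.Helper93.HeC.oinv 7 [0, 1, 2, 3, 4] where
  Kall := rfl
  invK := by decide +kernel
  invE := rfl
  relsIn := by decide +kernel
  Dpairs := rfl
  pairs := pairs_ok
  relsK := relsK_ok
  isSub := by
    intro x hx
    have hx' : subL.contains x = true := hx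
    show x ∈ subL
    simpa using hx'
  sub := by decide +kernel
  check := check_all
theorem fin_all : allBelow D.finalLabel 28 = true := by decide +kernel
theorem live_count : D.liveCount = 16 := by decide +kernel
theorem h0_ok : D.tg D.K 0 = 0 := by decide +kernel
theorem ok : Lk.OK Cfsg.Agent.Lib.Helper93.HeC.W Cfsg.Agent.Lib.Helper93.HeC.oinv 7 [0, 1, 2, 3, 4, 5] [0, 1, 2, 3, 4] where
  toCore := core
  gens := by decide +kernel
  hm := by decide
  h0 := h0_ok
  fin := allBelow_iff.mp fin_all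
  count := live_count

end Cfsg.Agent.Lib.Helper93.HeC.L1
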