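import Mathlib

set_option autoImplicit false

namespace Cfsg.Agent.Lib.Helper93.HeC

/-- the images of the letters in `SL₅(2)` -/
def Mx : ℕ → Matrix (Fin 5) (Fin 5) (ZMod 2)
  | 0 => !![1, 0, 1, 0, 0; 0, 1, 0, 0, 0; 0, 0, 1, 0, 0; 0, 1, 0, 1, 0; 0, 0, 0, 0, 1]
  | 1 => !![1, 1, 0, 1, 0; 0, 1, 0, 0, 0; 0, 0, 1, 1, 0; 0, 0, 0, 1, 0; 0, 0, 0, 0, 1]
  | 2 => !![1, 1, 0, 0, 0; 0, 1, 0, 0, 0; 0, 0, 1, 0, 0; 0, 0, 1, 1, 0; 0, 0, 0, 0, 1]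
  | 3 => !![1, 1, 0, 0, 0; 0, 1, 0, 0, 0; 0, 0, 1, 0, 0; 0, 0, 0, 1, 0; 0, 1, 0, 0, 1]
  | 4 => !![1, 1, 0, 0, 1; 0, 1, 0, 0, 0; 0, 0, 1, 0, 0; 0, 0, 0, 1, 0; 0, 0, 0, 0, 1]
  | 5 => !![1, 1, 0, 0, 0; 0, 1, 0, 0, 0; 0, 0, 1, 0, 0; 0, 0, 1, 1, 0; 0, 0, 1, 0, 1]
  | 6 => !![1, 1, 0, 0, 0; 0, 1, 0, 0, 0; 0, 0, 1, 0, 0; 0, 0, 1, 1, 1; 0, 0, 0, 0, 1]
  | _ => 1

/-- the action of the letters on the 32 row vectors, packed -/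
def tabP : ℕ → ℕ
  | 0 => 0xcf37eee3fa9da34bcab04b16e6a1ea19824388a0
  | 1 => 0xedbf48ea78afafcccb70699e40a8682b8ec48960
  | 2 => 0xceb78efbfcadaf48ca704a9686b9ec298e408860
  | 3 => 0xff3bede33abd2b69c2326b9ec4a968298e408860
  | 4 => 0x6f9fc4e9782d8f40c870ebbeccab68a9ae488a60
  | 5 => 0xefbfcceb788ca70adaf44a9686b9ec298e408860
  | 6 => 0x4a9686b9ecadaf48ca70ceb78efbfc298e408860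
  | _ => 0

/-- transversal words of a stabiliser chain on the 32 row vectors -/
def levM : List (ℕ × List (List ℕ)) := [
  (1, [
    [],
    [2],
    [0],
    [2, 0],
    [2, 1],
    [1],
    [1, 0],
    [2, 1, 0],
    [2, 4],
    [4],
    [4, 5],
    [0, 4],
    [1, 4],
    [2, 1, 4],
    [1, 6],
    [2, 1, 6]]),
  (4, [
    [],
    [2, 0, 1, 0, 6, 2, 3, 2, 6, 0, 1, 0],
    [2, 0, 1, 0, 6, 2, 3, 2, 6, 2],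
    [0, 1, 0, 2],
    [0, 1, 0, 2, 6, 2, 3, 2, 6, 2],
    [2, 0, 1, 0],
    [0, 1, 0, 2, 6, 0, 1, 0, 5, 2],
    [0, 1, 0, 2, 6, 0, 1, 0, 5, 2, 3, 2],
    [0, 1, 0, 2, 6, 0, 1, 0],
    [2, 0, 1, 0, 6, 2, 3, 0, 1, 0],
    [2, 0, 1, 0, 6, 2, 3, 2],
    [0, 1, 0, 2, 6, 2],
    [0, 1, 0, 2, 6, 2, 3, 2],
    [2, 0, 1, 0, 6, 2]]),
  (8, [
    [],
    [6, 2, 3, 2, 6, 2, 3, 2],
    [3, 2],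
    [6, 2, 3, 2, 6, 2],
    [6, 2, 3, 2, 0, 1, 0, 2, 5, 0, 1, 0],
    [3, 2, 6, 2, 0, 1, 0, 2, 5, 0, 1, 0],
    [6, 2, 0, 1, 0, 2, 5, 0, 1, 0, 3, 2],
    [6, 2, 0, 1, 0, 2, 5, 0, 1, 0],
    [6, 2],
    [3, 2, 6, 2, 3, 2],
    [3, 2, 6, 2],
    [6, 2, 3, 2]]),
  (16, [
    [],
    [5, 2, 6, 2, 5, 6, 2, 3],
    [5, 2],
    [6, 2, 5, 6, 2, 3],
    [6, 2, 5, 6, 2, 3, 0, 1, 0, 2, 5, 0, 1, 0],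
    [5, 2, 0, 1, 0, 2, 5, 0, 1, 0],
    [5, 2, 6, 2, 5, 6, 2, 3, 0, 1, 0, 2, 5, 0, 1, 0],
    [0, 1, 0, 2, 5, 0, 1, 0]])]

end Cfsg.Agent.Lib.Helper93.HeC
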